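import Groth.Agent.PerfB.BCTot

/-!
# Trace data in the total category of a contravariant pseudofunctor

`P : PullData D`, with right adjoints `Ψ.push f` of the `P.pull f`.  A trace datum over `f : X ⟶ Y` is
`τ : f_* L ⟶ K`.  `TrMor` : morphisms of trace data over a square.  Composition, cancellation, base change.
`UnivTr` : universal trace data (with respect to a class `Q` of objects).
-/

set_option autoImplicit false

universe v₁ u₁ v₂ u₂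

open CategoryTheory

namespace Groth.Agent.Dual.H346.Trace

open Groth.Agent.PerfB.BCTot Groth.Agent.PerfB.BCTot.Tot

variable {𝒮 : Type u₁} [Category.{v₁} 𝒮] {D : 𝒮 → Type u₂} [∀ X, Category.{v₂} (D X)]

/-- Chosen right adjoints of the pullback functors. -/
structure PushData (P : PullData D) where
  /-- direct image -/
  push {X Y : 𝒮} (f : X ⟶ Y) : D X ⥤ D Y
  /-- the adjunctions -/
  adj {X Y : 𝒮} (f : X ⟶ Y) : P.pull f ⊣ push f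

variable {P : PullData D} (Ψ : PushData P)

/-- The cocartesian arrow `(X, N) ⟶ (Y, f_* N)`. -/
def arr {X Y : 𝒮} (f : X ⟶ Y) (N : D X) : (⟨X, N⟩ : Tot P) ⟶ ⟨Y, (Ψ.push f).obj N⟩ :=
  cocartLift f (Ψ.adj f) N

@[simp] lemma arr_base {X Y : 𝒮} (f : X ⟶ Y) (N : D X) : (arr Ψ f N).base = f := rfl

lemma isCocart_arr {X Y : 𝒮} (f : X ⟶ Y) (N : D X) : IsCocart (arr Ψ f N) :=
  isCocart_cocartLift _ _ _

lemma ver_comp_arr {X Y : 𝒮} (f : X ⟶ Y) {N L : D X} (φ : N ⟶ L) :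
    ver (P := P) φ ≫ arr Ψ f N = arr Ψ f L ≫ ver ((Ψ.push f).map φ) := by
  refine (ver_comp' (P := P) φ (B := ⟨Y, (Ψ.push f).obj N⟩) f ((Ψ.adj f).counit.app N)).trans ?_
  refine Eq.trans ?_ (comp_ver' (P := P) (A := ⟨X, L⟩) ((Ψ.push f).map φ) f
    ((Ψ.adj f).counit.app L)).symm
  congr 1
  exact ((Ψ.adj f).counit.naturality φ).symm

/-- The arrow between direct images induced by `θ`. -/
lemma exists_desc {X Y X' Y' : 𝒮} (f : X ⟶ Y) (f' : X' ⟶ Y') {L : D X} {L' : D X'}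
    (θ : (⟨X', L'⟩ : Tot P) ⟶ ⟨X, L⟩) (g : Y' ⟶ Y) (w : θ.base ≫ f = f' ≫ g) :
    ∃ s : (⟨Y', (Ψ.push f').obj L'⟩ : Tot P) ⟶ ⟨Y, (Ψ.push f).obj L⟩, s.base = g ∧
      arr Ψ f' L' ≫ s = θ ≫ arr Ψ f L :=
  (isCocart_arr Ψ f' L').desc (θ ≫ arr Ψ f L) g w.symm

/-- Morphisms of trace data. -/
def TrMor {X Y X' Y' : 𝒮} (f : X ⟶ Y) (f' : X' ⟶ Y') {K : D Y} {L : D X}
    (τ : (Ψ.push f).obj L ⟶ K) {K' : D Y'} {L' : D X'} (τ' : (Ψ.push f').obj L' ⟶ K')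
    (θL : (⟨X', L'⟩ : Tot P) ⟶ ⟨X, L⟩) (θK : (⟨Y', K'⟩ : Tot P) ⟶ ⟨Y, K⟩) : Prop :=
  ∃ s : (⟨Y', (Ψ.push f').obj L'⟩ : Tot P) ⟶ ⟨Y, (Ψ.push f).obj L⟩, s.base = θK.base ∧
    arr Ψ f' L' ≫ s = θL ≫ arr Ψ f L ∧ ver τ' ≫ s = θK ≫ ver τ

section

variable {Ψ}
variable {X Y X' Y' X'' Y'' : 𝒮} {f : X ⟶ Y} {f' : X' ⟶ Y'} {f'' : X'' ⟶ Y''}
  {K : D Y} {L : D X} {τ : (Ψ.push f).obj L ⟶ K} {K' : D Y'} {L' : D X'}
  {τ' : (Ψ.push f').obj L' ⟶ K'} {K'' : D Y''} {L'' : D X''} {τ'' : (Ψ.push f'').obj L'' ⟶ K''}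
  {θL : (⟨X', L'⟩ : Tot P) ⟶ ⟨X, L⟩} {θK : (⟨Y', K'⟩ : Tot P) ⟶ ⟨Y, K⟩}
  {ωL : (⟨X'', L''⟩ : Tot P) ⟶ ⟨X', L'⟩} {ωK : (⟨Y'', K''⟩ : Tot P) ⟶ ⟨Y', K'⟩}

lemma TrMor.w (h : TrMor Ψ f f' τ τ' θL θK) : θL.base ≫ f = f' ≫ θK.base := by
  obtain ⟨s, hs, h1, -⟩ := h
  have := congrArg Tot.Hom.base h1
  rw [comp_base, comp_base, arr_base, arr_base, hs] at this
  exact this.symm

lemma TrMor.comp (h₁ : TrMor Ψ f' f'' τ' τ'' ωL ωK) (h : TrMor Ψ f f' τ τ' θL θK) :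
    TrMor Ψ f f'' τ τ'' (ωL ≫ θL) (ωK ≫ θK) := by
  obtain ⟨s, hs, a, b⟩ := h
  obtain ⟨t, ht, c, d⟩ := h₁
  refine ⟨t ≫ s, by rw [comp_base, comp_base, hs, ht], ?_, ?_⟩
  · rw [reassoc_of% c, a, Category.assoc]
  · rw [reassoc_of% d, b, Category.assoc]

/-- Cancellation: if the arrow of direct images of the second morphism is cartesian. -/
lemma TrMor.cancel (h : TrMor Ψ f f' τ τ' θL θK)
    (h₂ : TrMor Ψ f f'' τ τ'' (ωL ≫ θL) (ωK ≫ θK))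
    (hBC : BC θL f f' θK.base) (w : ωL.base ≫ f' = f'' ≫ ωK.base) :
    TrMor Ψ f' f'' τ' τ'' ωL ωK := by
  obtain ⟨s, hs, a, b⟩ := h
  obtain ⟨t, ht, c, d⟩ := h₂
  obtain ⟨r, hr, e⟩ := exists_desc Ψ f' f'' ωL ωK.base w
  have hsc : IsCart s := hBC _ _ (arr Ψ f L) (arr Ψ f' L') s rfl rfl hs (isCocart_arr _ _ _)
    (isCocart_arr _ _ _) a
  have hrs : r ≫ s = t := by
    refine (isCocart_arr Ψ f'' L'').uniq ?_ ?_
    · rw [comp_base, hr, hs, ht, comp_base]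
    · rw [reassoc_of% e, a, c, Category.assoc]
  refine ⟨r, hr, e, ?_⟩
  refine hsc.uniq ?_ ?_
  · rw [comp_base, comp_base, hr, ver_base, ver_base, Category.id_comp, Category.comp_id]
  · rw [Category.assoc, hrs, d, Category.assoc, Category.assoc, b]

/-- Base change of trace data. -/
lemma exists_trMor (τ : (Ψ.push f).obj L ⟶ K) (θL : (⟨X', L'⟩ : Tot P) ⟶ ⟨X, L⟩)
    (θK : (⟨Y', K'⟩ : Tot P) ⟶ ⟨Y, K⟩) (w : θL.base ≫ f = f' ≫ θK.base)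
    (hBC : BC θL f f' θK.base) : ∃ τ' : (Ψ.push f').obj L' ⟶ K', TrMor Ψ f f' τ τ' θL θK := by
  obtain ⟨s, hs, a⟩ := exists_desc Ψ f f' θL θK.base w
  have hsc : IsCart s := hBC _ _ (arr Ψ f L) (arr Ψ f' L') s rfl rfl hs (isCocart_arr _ _ _)
    (isCocart_arr _ _ _) a
  obtain ⟨k, hk, hk'⟩ := hsc.lift (θK ≫ ver τ) (𝟙 Y') (by
    rw [hs, comp_base, ver_base, Category.id_comp]
    exact (Category.comp_id _).symm)
  obtain ⟨τ', rfl⟩ := exists_ver k hk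
  exact ⟨τ', s, hs, a, hk'⟩

lemma TrMor.unique {τ₁ : (Ψ.push f').obj L' ⟶ K'} (h : TrMor Ψ f f' τ τ' θL θK)
    (h₁ : TrMor Ψ f f' τ τ₁ θL θK) (hBC : BC θL f f' θK.base) : τ' = τ₁ := by
  obtain ⟨s, hs, a, b⟩ := h
  obtain ⟨t, ht, c, d⟩ := h₁
  have hsc : IsCart s := hBC _ _ (arr Ψ f L) (arr Ψ f' L') s rfl rfl hs (isCocart_arr _ _ _)
    (isCocart_arr _ _ _) a
  have hst : s = t := (isCocart_arr Ψ f' L').uniq (hs.trans ht.symm) (a.trans c.symm)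
  subst hst
  exact ver_injective (P := P) (hsc.uniq rfl (b.trans d.symm))

end

section Vert

variable {Ψ}
variable {X Y : 𝒮} {f : X ⟶ Y} {K : D Y} {L L₀ : D X} {τ : (Ψ.push f).obj L ⟶ K}
  {τ₀ : (Ψ.push f).obj L₀ ⟶ K}

/-- Vertical morphisms of trace data. -/
lemma trMor_ver_iff (φ : L ⟶ L₀) : TrMor Ψ f f τ τ₀ (ver φ) (𝟙 _) ↔
    (Ψ.push f).map φ ≫ τ₀ = τ := by
  constructor
  · rintro ⟨s, hs, a, b⟩
    have h1 : s = ver ((Ψ.push f).map φ) := by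
      refine (isCocart_arr Ψ f L₀).uniq hs ?_
      rw [a, ver_comp_arr]
    subst h1
    rw [ver_comp_ver, Category.id_comp] at b
    exact ver_injective (P := P) b
  · intro h
    refine ⟨ver ((Ψ.push f).map φ), rfl, (ver_comp_arr Ψ f φ).symm, ?_⟩
    rw [ver_comp_ver, h, Category.id_comp]

/-- Vertical morphisms of trace data, general form. -/
lemma trMor_ver_ver_iff {K₀ : D Y} {τ₀ : (Ψ.push f).obj L₀ ⟶ K₀} (φ : L ⟶ L₀) (κ : K ⟶ K₀) :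
    TrMor Ψ f f τ τ₀ (ver φ) (ver κ) ↔ (Ψ.push f).map φ ≫ τ₀ = τ ≫ κ := by
  constructor
  · rintro ⟨s, hs, a, b⟩
    have h1 : s = ver ((Ψ.push f).map φ) := by
      refine (isCocart_arr Ψ f L₀).uniq hs ?_
      rw [a, ver_comp_arr]
    subst h1
    rw [ver_comp_ver, ver_comp_ver] at b
    exact ver_injective (P := P) b
  · intro h
    refine ⟨ver ((Ψ.push f).map φ), rfl, (ver_comp_arr Ψ f φ).symm, ?_⟩
    rw [ver_comp_ver, h, ver_comp_ver]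

end Vert

/-! ### Universal trace data -/

section Univ

variable (Q : ∀ X : 𝒮, D X → Prop)

/-- `τ : f_* L ⟶ K` is universal with respect to the objects in `Q`. -/
structure UnivTr {X Y : 𝒮} (f : X ⟶ Y) {K : D Y} {L : D X} (τ : (Ψ.push f).obj L ⟶ K) : Prop where
  mem : Q X L
  bij : ∀ N : D X, Q X N → Function.Bijective (fun g : N ⟶ L => (Ψ.push f).map g ≫ τ)

variable {Ψ Q}
variable {X Y : 𝒮} {f : X ⟶ Y} {K : D Y} {L L₀ : D X} {τ : (Ψ.push f).obj L ⟶ K}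
  {τ₀ : (Ψ.push f).obj L₀ ⟶ K}

lemma UnivTr.exists_lift (h : UnivTr Ψ Q f τ) {N : D X} (hN : Q X N)
    (g : (Ψ.push f).obj N ⟶ K) : ∃ φ : N ⟶ L, (Ψ.push f).map φ ≫ τ = g := (h.bij N hN).2 g

lemma UnivTr.hom_ext (h : UnivTr Ψ Q f τ) {N : D X} (hN : Q X N) {φ ψ : N ⟶ L}
    (e : (Ψ.push f).map φ ≫ τ = (Ψ.push f).map ψ ≫ τ) : φ = ψ := (h.bij N hN).1 e

lemma UnivTr.isIso (h : UnivTr Ψ Q f τ) (h₀ : UnivTr Ψ Q f τ₀) (φ : L ⟶ L₀)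
    (e : (Ψ.push f).map φ ≫ τ₀ = τ) : IsIso φ := by
  obtain ⟨ψ, hψ⟩ := h.exists_lift h₀.mem τ₀
  refine ⟨ψ, h.hom_ext h.mem ?_, h₀.hom_ext h₀.mem ?_⟩
  · rw [Functor.map_comp, Category.assoc, hψ, e, CategoryTheory.Functor.map_id, Category.id_comp]
  · rw [Functor.map_comp, Category.assoc, e, hψ, CategoryTheory.Functor.map_id, Category.id_comp]

lemma UnivTr.of_isIso (h₀ : UnivTr Ψ Q f τ₀) (φ : L ⟶ L₀) [IsIso φ] (hL : Q X L)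
    (e : (Ψ.push f).map φ ≫ τ₀ = τ) : UnivTr Ψ Q f τ := by
  refine ⟨hL, fun N hN => ?_⟩
  have h1 : (fun g : N ⟶ L => (Ψ.push f).map g ≫ τ) =
      (fun g : N ⟶ L₀ => (Ψ.push f).map g ≫ τ₀) ∘ (fun g : N ⟶ L => g ≫ φ) := by
    funext g
    simp only [Function.comp_apply, Functor.map_comp, Category.assoc, e]
  rw [h1]
  exact (h₀.bij N hN).comp ((asIso φ).homToEquiv (Z := N)).bijective

/-- Transport along a cartesian morphism of trace data over isomorphisms of the fibres. -/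
lemma UnivTr.of_iso {K₀ : D Y} {τ₀ : (Ψ.push f).obj L₀ ⟶ K₀} (h₀ : UnivTr Ψ Q f τ₀)
    (φ : L ⟶ L₀) (κ : K ⟶ K₀) [IsIso φ] [IsIso κ] (hL : Q X L)
    (e : (Ψ.push f).map φ ≫ τ₀ = τ ≫ κ) : UnivTr Ψ Q f τ := by
  refine ⟨hL, fun N hN => ?_⟩
  have h1 : (fun g : N ⟶ L => (Ψ.push f).map g ≫ τ) =
      (fun x => x ≫ inv κ) ∘ (fun g : N ⟶ L₀ => (Ψ.push f).map g ≫ τ₀) ∘
        (fun g : N ⟶ L => g ≫ φ) := by
    funext g
    simp only [Function.comp_apply, Functor.map_comp, Category.assoc, reassoc_of% e,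
      IsIso.hom_inv_id, Category.comp_id]
  rw [h1]
  exact (((asIso κ).symm.homToEquiv (Z := (Ψ.push f).obj N)).bijective).comp
    ((h₀.bij N hN).comp ((asIso φ).homToEquiv (Z := N)).bijective)

section Loc

variable {U V : 𝒮} {j : V ⟶ Y} {j' : U ⟶ X} {f' : U ⟶ V}

/-- **Direct image of a universal trace datum along a "localization"** (`j`, `j'`). -/
theorem UnivTr.push (w : j' ≫ f = f' ≫ j)
    (hpull : ∀ N : D X, Q X N → Q U ((P.pull j').obj N))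
    (hBC : ∀ N : D X, Q X N → BC (cartLift (P := P) ⟨X, N⟩ j') f f' j)
    {K' : D V} {L' : D U} {τ' : (Ψ.push f').obj L' ⟶ K'} (hU : UnivTr Ψ Q f' τ')
    {K₁ : D Y} {L₁ : D X} {τ₁ : (Ψ.push f).obj L₁ ⟶ K₁} (hL₁ : Q X L₁)
    {qL : (⟨U, L'⟩ : Tot P) ⟶ ⟨X, L₁⟩} {qK : (⟨V, K'⟩ : Tot P) ⟶ ⟨Y, K₁⟩}
    (hqL : qL.base = j') (hqK : qK.base = j) (cqL : IsCocart qL) (cqK : IsCocart qK)
    (h : TrMor Ψ f f' τ₁ τ' qL qK) : UnivTr Ψ Q f τ₁ := by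
  obtain ⟨s₁, hs₁, a₁, b₁⟩ := h
  refine ⟨hL₁, fun N hN => ?_⟩
  let u := cartLift (P := P) ⟨X, N⟩ j'
  obtain ⟨s, hs, a⟩ := exists_desc Ψ f f' u j w
  have hsc : IsCart s := hBC N hN _ _ (arr Ψ f N) (arr Ψ f' ((P.pull j').obj N)) s rfl rfl hs
    (isCocart_arr _ _ _) (isCocart_arr _ _ _) a
  have key : ∀ (φ : N ⟶ L₁) (ψ : (P.pull j').obj N ⟶ L') (_ : qL ≫ ver φ = ver ψ ≫ u),
      qK ≫ ver ((Ψ.push f).map φ ≫ τ₁) = ver ((Ψ.push f').map ψ ≫ τ') ≫ s := by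
    intro φ ψ e
    have e1 : s₁ ≫ ver ((Ψ.push f).map φ) = ver ((Ψ.push f').map ψ) ≫ s := by
      refine (isCocart_arr Ψ f' L').uniq ?_ ?_
      · rw [comp_base, comp_base, hs, hs₁, hqK, ver_base, ver_base, Category.comp_id,
          Category.id_comp]
      · rw [reassoc_of% a₁, ← ver_comp_arr, reassoc_of% e, ← a, ← Category.assoc, ver_comp_arr,
          Category.assoc]
    rw [← ver_comp_ver, ← ver_comp_ver, ← reassoc_of% b₁, e1, Category.assoc]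
  have ex : ∀ φ : N ⟶ L₁, ∃ ψ : (P.pull j').obj N ⟶ L', qL ≫ ver φ = ver ψ ≫ u := by
    intro φ
    obtain ⟨k, hk, hk'⟩ := (isCart_cartLift (P := P) ⟨X, N⟩ j').lift (qL ≫ ver φ) (𝟙 U) (by
      rw [comp_base, hqL, ver_base]
      simp)
    obtain ⟨ψ, rfl⟩ := exists_ver k hk
    exact ⟨ψ, hk'.symm⟩
  constructor
  · intro φ₁ φ₂ e
    obtain ⟨ψ₁, h₁⟩ := ex φ₁
    obtain ⟨ψ₂, h₂⟩ := ex φ₂
    have e1 : (Ψ.push f').map ψ₁ ≫ τ' = (Ψ.push f').map ψ₂ ≫ τ' := by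
      refine ver_injective (P := P) (hsc.uniq rfl ?_)
      rw [← key φ₁ ψ₁ h₁, ← key φ₂ ψ₂ h₂]
      exact congrArg (fun x => qK ≫ ver x) e
    have e2 : ψ₁ = ψ₂ := hU.hom_ext (hpull N hN) e1
    subst e2
    exact ver_injective (P := P) (cqL.uniq rfl (h₁.trans h₂.symm))
  · intro ω
    obtain ⟨k, hk, hk'⟩ := hsc.lift (qK ≫ ver ω) (𝟙 V) (by
      rw [comp_base, hqK, ver_base, hs]
      simp)
    obtain ⟨χ, rfl⟩ := exists_ver k hk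
    obtain ⟨ψ, rfl⟩ := hU.exists_lift (hpull N hN) χ
    obtain ⟨l, hl, hl'⟩ := cqL.desc (ver ψ ≫ u) (𝟙 X) (by
      rw [hqL, comp_base, ver_base]
      simp [u])
    obtain ⟨φ, rfl⟩ := exists_ver l hl
    refine ⟨φ, ver_injective (P := P) (cqK.uniq rfl ?_)⟩
    rw [key φ ψ hl', hk']

/-- **Restriction of a universal trace datum.** -/
theorem UnivTr.restrict_aux {K' : D V} {L' L₂ : D U} {τ' : (Ψ.push f').obj L' ⟶ K'}
    {τ₂ : (Ψ.push f').obj L₂ ⟶ K'} (hU : UnivTr Ψ Q f' τ₂) (hL' : Q U L')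
    {uL : (⟨U, L'⟩ : Tot P) ⟶ ⟨X, L⟩} {uK : (⟨V, K'⟩ : Tot P) ⟶ ⟨Y, K⟩} (huL : uL.base = j')
    (cuL : IsCart uL) (hBC : BC uL f f' uK.base)
    (h : TrMor Ψ f f' τ τ' uL uK)
    {K₁ : D Y} {L₁ : D X} {τ₁ : (Ψ.push f).obj L₁ ⟶ K₁}
    {qL : (⟨U, L₂⟩ : Tot P) ⟶ ⟨X, L₁⟩} {qK : (⟨V, K'⟩ : Tot P) ⟶ ⟨Y, K₁⟩}
    (hqL : qL.base = j') (cqL : IsCart qL)
    (h₁ : TrMor Ψ f f' τ₁ τ₂ qL qK)
    (η : K ⟶ K₁) (hη : qK ≫ ver η = uK) (lam : L ⟶ L₁)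
    (hlam : (Ψ.push f).map lam ≫ τ₁ = τ ≫ η) (hiso : IsIso ((P.pull j').map lam)) :
    UnivTr Ψ Q f' τ' := by
  have hver : TrMor Ψ f f τ τ₁ (ver lam) (ver η) := (trMor_ver_ver_iff lam η).2 hlam
  have h2 := h₁.comp hver
  obtain ⟨k, hk, hk'⟩ := cuL.lift (qL ≫ ver lam) (𝟙 U) (by
      rw [comp_base, hqL, huL, ver_base]
      simp)
  obtain ⟨ψ, rfl⟩ := exists_ver k hk
  rw [← hk', hη] at h2
  have h3 : TrMor Ψ f f' τ τ₂ (ver ψ ≫ uL) (𝟙 _ ≫ uK) := by rwa [Category.id_comp]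
  have h4 : TrMor Ψ f' f' τ' τ₂ (ver ψ) (𝟙 _) := h.cancel h3 hBC (by
    rw [ver_base, id_base]
    simp)
  have h5 : (Ψ.push f').map ψ ≫ τ₂ = τ' := (trMor_ver_iff ψ).1 h4
  have h6 : IsCart (qL ≫ ver lam) := by
    have : IsIso qL.fib := cqL
    unfold IsCart
    rw [comp_fib]
    subst hqL
    have h7 : IsIso ((P.pull qL.base).map (ver (P := P) lam).fib) := by
      change IsIso ((P.pull qL.base).map ((P.idI X).hom.app L ≫ lam))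
      rw [Functor.map_comp]
      infer_instance
    infer_instance
  rw [← hk', isCart_comp_iff cuL, isCart_ver_iff] at h6
  exact hU.of_isIso ψ hL' h5

end Loc

/-- Comparison of restrictions of two trace data (for locality). -/
theorem isIso_pull_of_univTr {U V : 𝒮} {j : V ⟶ Y} {j' : U ⟶ X} {f' : U ⟶ V}
    {K' : D V} {L' L₀' : D U} {τ' : (Ψ.push f').obj L' ⟶ K'} {τ₀' : (Ψ.push f').obj L₀' ⟶ K'}
    (h' : UnivTr Ψ Q f' τ') (h₀' : UnivTr Ψ Q f' τ₀')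
    {uL : (⟨U, L'⟩ : Tot P) ⟶ ⟨X, L⟩} {uL₀ : (⟨U, L₀'⟩ : Tot P) ⟶ ⟨X, L₀⟩}
    {uK : (⟨V, K'⟩ : Tot P) ⟶ ⟨Y, K⟩}
    (huL : uL.base = j') (huL₀ : uL₀.base = j')
    (cuL : IsCart uL) (cuL₀ : IsCart uL₀)
    (hBC : BC uL f f' uK.base) (h : TrMor Ψ f f' τ τ' uL uK) (h₀ : TrMor Ψ f f' τ₀ τ₀' uL₀ uK)
    (φ : L ⟶ L₀) (hφ : (Ψ.push f).map φ ≫ τ₀ = τ) : IsIso ((P.pull j').map φ) := by
  have hver : TrMor Ψ f f τ τ₀ (ver φ) (𝟙 _) := (trMor_ver_iff φ).2 hφ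
  have h2 := h₀.comp hver
  obtain ⟨k, hk, hk'⟩ := cuL.lift (uL₀ ≫ ver φ) (𝟙 U) (by
      rw [comp_base, huL, huL₀, ver_base]
      simp)
  obtain ⟨ψ, rfl⟩ := exists_ver k hk
  rw [← hk', Category.comp_id] at h2
  have h3 : TrMor Ψ f f' τ τ₀' (ver ψ ≫ uL) (𝟙 _ ≫ uK) := by rwa [Category.id_comp]
  have h4 : TrMor Ψ f' f' τ' τ₀' (ver ψ) (𝟙 _) := h.cancel h3 hBC (by
    rw [ver_base, id_base]
    simp)
  have h5 : (Ψ.push f').map ψ ≫ τ₀' = τ' := (trMor_ver_iff ψ).1 h4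
  have h6 : IsIso ψ := h'.isIso h₀' ψ h5
  have h7 : IsCart (uL₀ ≫ ver φ) := by
    rw [← hk']
    exact ((isCart_ver_iff ψ).2 h6).comp cuL
  have : IsIso uL₀.fib := cuL₀
  unfold IsCart at h7
  rw [comp_fib] at h7
  subst huL₀
  have h8 : IsIso ((P.pull uL₀.base).map (ver (P := P) φ).fib ≫ uL₀.fib) :=
    IsIso.of_isIso_comp_left ((P.compI uL₀.base (ver (P := P) φ).base).inv.app L) _
  have h9 : IsIso ((P.pull uL₀.base).map (ver (P := P) φ).fib) :=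
    IsIso.of_isIso_comp_right _ uL₀.fib
  have h10 : (P.pull uL₀.base).map (ver (P := P) φ).fib =
      (P.pull uL₀.base).map ((P.idI X).hom.app L) ≫ (P.pull uL₀.base).map φ := by
    rw [← Functor.map_comp]
    rfl
  have h11 : IsIso ((P.pull uL₀.base).map ((P.idI X).hom.app L) ≫ (P.pull uL₀.base).map φ) := by
    rw [← h10]; exact h9
  exact @IsIso.of_isIso_comp_left _ _ _ _ _ ((P.pull uL₀.base).map ((P.idI X).hom.app L))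
    ((P.pull uL₀.base).map φ) inferInstance h11

end Univ

end Groth.Agent.Dual.H346.Trace
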